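import Groth.Agent.Lib.NumConn12.Restrict
import Groth.Agent.Lib.CurveRR.Setup
import Groth.Agent.Lib.Euler.InvHom
import Groth.Agent.Lib.HodgeIndex.Pullback
import Groth.Agent.Lib.K0Sub.KerUnit

/-!
# Sections of line bundles of non-positive degree on numerically connected divisors
-/

set_option autoImplicit false
set_option backward.isDefEq.respectTransparency false
set_option linter.all false

universe u

open CategoryTheory CategoryTheory.Limits AlgebraicGeometry TopologicalSpace Opposite

noncomputable section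

namespace GrothLib.NumConn12

open GrothLib.Cube (Pic clsMod)
open GrothLib.HodgeIndex (isect deg curveIdeal rep)
open GrothLib.Snapper (IsTop DimLT mixed phi)
open GrothLib.Euler (tF)
open GrothLib.QCoh (stalkLin)

variable {X : Scheme.{u}}

/-- A map from `O_X` to the direct image of an invertible module factors through a map from the structure sheaf. -/
theorem exists_factor {E : Scheme.{u}} (j : E ⟶ X) [IsClosedImmersion j] {N : E.Modules}
    (f : Coh.structureModule X ⟶ (Scheme.Modules.pushforward j).obj N) :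
    ∃ ψ : (Scheme.Modules.pullback j).obj (Coh.structureModule X) ⟶ N,
      K0Sub.unitApp j (Coh.structureModule X) ≫ (Scheme.Modules.pushforward j).map ψ = f ∧ (f ≠ 0 → ψ ≠ 0) := by
  let adj := Scheme.Modules.pullbackPushforwardAdjunction j
  obtain ⟨_, hl, hr⟩ := K0Sub.pushforward_exact j
  haveI := hl
  refine ⟨(adj.homEquiv _ _).symm f, ?_, fun hf h => hf ?_⟩
  · rw [← Adjunction.homEquiv_unit]
    exact (adj.homEquiv _ _).apply_symm_apply f
  · rw [← (adj.homEquiv _ _).apply_symm_apply f, h, Adjunction.homEquiv_unit, Functor.map_zero]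
    exact Limits.comp_zero

variable (k : Type u) [Field k] [X.Over (Spec (CommRingCat.of k))] [IsProper (X ↘ Spec (CommRingCat.of k))]
  [IsIntegral X] [Smooth (X ↘ Spec (CommRingCat.of k))]
  (hdim : topologicalKrullDim X = ((2 : ℕ) : WithBot ℕ∞)) {L : X.Modules} (hL : PicF.IsInvertible L)

include hdim in
theorem deg_le_zero_pullback {y : X} (hy : IsTop 1 y) (hd : deg k y (clsMod hL) ≤ 0) :
    (@Curv2.deg k _ (curveIdeal y).subscheme ⟨(curveIdeal y).subschemeι ≫ (X ↘ (Spec (CommRingCat.of k)))⟩
      ((Scheme.Modules.pullback (curveIdeal y).subschemeι).obj L) 1) ≤ 0 := by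
  have e := deg_pullback_pt k hdim hy hL
  exact_mod_cast le_of_eq_of_le e hd

include hdim hL in
/-- A non-zero section on a curve of non-positive degree generates. -/
theorem epi_of_ne_zero {y : X} (hy : IsTop 1 y) (hd : deg k y (clsMod hL) ≤ 0)
    (f : Coh.structureModule X ⟶ (tF L).obj (ClSub.quotMod (curveIdeal y))) (hf : f ≠ 0) : Epi f := by
  haveI := Euler.isNoetherian_of_proper (X := X) k
  haveI : IsIntegral (curveIdeal y).subscheme := Snapper.isIntegral_pt y
  letI : (curveIdeal y).subscheme.Over (Spec (CommRingCat.of k)) := ⟨(curveIdeal y).subschemeι ≫ X ↘ Spec (CommRingCat.of k)⟩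
  haveI : IsProper ((curveIdeal y).subscheme ↘ Spec (CommRingCat.of k)) :=
    inferInstanceAs (IsProper ((curveIdeal y).subschemeι ≫ X ↘ Spec (CommRingCat.of k)))
  let j := (curveIdeal y).subschemeι
  obtain ⟨q⟩ := CMReg.nonempty_tensorMod_push j L (Euler.isFinLocFree_of_isInvertible hL)
  let q' : (tF L).obj (ClSub.quotMod (curveIdeal y)) ≅ (Scheme.Modules.pushforward j).obj ((Scheme.Modules.pullback j).obj L) := q
  have hne : f ≫ q'.hom ≠ 0 := fun h => hf ((cancel_mono q'.hom).1 (by rw [h, zero_comp]))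
  obtain ⟨ψ, hψ, hψ0⟩ := exists_factor j (f ≫ q'.hom)
  let σ := (OX.pullUnitIso j).inv ≫ ψ
  have hσ : σ ≠ 0 := fun h => hψ0 hne ((cancel_epi (OX.pullUnitIso j).inv).1 (by rw [comp_zero]; exact h))
  haveI : IsIso σ := (Euler.deg_of_section k (dim_pt hy) (Ample.isInvertible_pullback j hL) hσ).2
    (deg_le_zero_pullback k hdim hL hy hd)
  haveI : IsIso ψ := IsIso.of_isIso_comp_left (OX.pullUnitIso j).inv ψ
  haveI : (Coh.structureModule X).IsQuasicoherent := WeakAss.isQuasicoherent_structureModule
  haveI := K0Sub.isQuasicoherent_pushPull j (Coh.structureModule X)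
  haveI : Epi (K0Sub.unitApp j (Coh.structureModule X)) :=
    K0Sub.epi_of_app_surjective _ fun U => (K0Sub.app_unit_surjective_and_ker j (Coh.structureModule X) U).1
  have : f = (f ≫ q'.hom) ≫ q'.inv := by rw [Category.assoc, q'.hom_inv_id, Category.comp_id]
  rw [this, ← hψ]
  infer_instance

include hdim hL in
/-- At most one section on a curve of non-positive degree. -/
theorem finrank_curve_le_one [IsAlgClosed k] {y : X} (hy : IsTop 1 y) (hd : deg k y (clsMod hL) ≤ 0) :
    Module.finrank k (Coh.HH X ((tF L).obj (ClSub.quotMod (curveIdeal y))) 0) ≤ 1 := by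
  haveI := Euler.isNoetherian_of_proper (X := X) k
  haveI : IsIntegral (curveIdeal y).subscheme := Snapper.isIntegral_pt y
  letI : (curveIdeal y).subscheme.Over (Spec (CommRingCat.of k)) := ⟨(curveIdeal y).subschemeι ≫ X ↘ Spec (CommRingCat.of k)⟩
  haveI : IsProper ((curveIdeal y).subscheme ↘ Spec (CommRingCat.of k)) :=
    inferInstanceAs (IsProper ((curveIdeal y).subschemeι ≫ X ↘ Spec (CommRingCat.of k)))
  let j := (curveIdeal y).subschemeι
  obtain ⟨q⟩ := CMReg.nonempty_tensorMod_push j L (Euler.isFinLocFree_of_isInvertible hL)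
  let q' : (tF L).obj (ClSub.quotMod (curveIdeal y)) ≅ (Scheme.Modules.pushforward j).obj ((Scheme.Modules.pullback j).obj L) := q
  have hLC := Ample.isInvertible_pullback j hL
  haveI : ((Scheme.Modules.pullback j).obj L).IsQuasicoherent :=
    Euler.isQuasicoherent_of_isFinLocFree (Euler.isFinLocFree_of_isInvertible hLC)
  obtain ⟨e⟩ := Snapper.nonempty_HH_linearEquiv_pushforward (A := k) j rfl ((Scheme.Modules.pullback j).obj L) 0
  rw [(Euler.hhEquiv (A := k) q' 0).finrank_eq, ← e.finrank_eq]
  rcases subsingleton_or_nontrivial (Coh.HH (curveIdeal y).subscheme ((Scheme.Modules.pullback j).obj L) 0) with h | h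
  · rw [Module.finrank_zero_of_subsingleton]
    exact Nat.zero_le _
  · obtain ⟨u, hu⟩ := Euler.exists_ne_zero_section h
    have hs : FinCov.homOfSection u ≠ 0 := fun h => hu (by
      have h1 := FinCov.homOfSection_one u ⊤
      rw [h] at h1
      rw [show (homOfLE (le_top : (⊤ : (curveIdeal y).subscheme.Opens) ≤ ⊤)).op = 𝟙 _ from Subsingleton.elim _ _,
        CategoryTheory.Functor.map_id] at h1
      exact h1.symm)
    haveI := (Euler.deg_of_section k (dim_pt hy) hLC hs).2 (deg_le_zero_pullback k hdim hL hy hd)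
    rw [← (Euler.hhEquiv (A := k) (asIso (FinCov.homOfSection u)) 0).finrank_eq,
      CurveRR.finrank_H0_structure_eq_one k]

variable {Z : X.IdealSheafData} (hZ : _root_.BlowUp.IsEffCartierIdeal Z) (hZ0 : Z ≠ ⊤)
  (hnc : ∀ A K : X.IdealSheafData, ∀ (hA : PicF.IsInvertible (ClSub.idealMod A))
    (hK : PicF.IsInvertible (ClSub.idealMod K)), A ≠ ⊤ → K ≠ ⊤ → Z = A * K →
      0 < isect k (clsMod hA)⁻¹ (clsMod hK)⁻¹)
  (hdeg : ∀ y, IsTop 1 y → y ∈ (Z.support : Set X) → deg k y (clsMod hL) ≤ 0)

include k hdim hZ in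
theorem exists_curve_through {x : X} (hx : x ∈ (Z.support : Set X)) :
    ∃ y, IsTop 1 y ∧ y ∈ (Z.support : Set X) ∧ y ⤳ x := by
  have hZi := IdealModSec.isInvertible_of_isEffCartier hZ
  have hη := HodgeIndex.stalk_bijective_idealModι Z (HodgeIndex.genericPoint_notMem_support k hdim hZi)
  obtain ⟨y, hy, hyx, hys⟩ := Goodman.exists_curve_not_surjective k hdim hZi (ClSub.idealModι Z) hη.2
    (HodgeIndex.not_surjective_idealModι Z hx)
  exact ⟨y, hy, by_contra fun h => hys (HodgeIndex.stalk_bijective_idealModι Z h).2, hyx⟩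

include hdim hnc hdeg hZ hZ0 hL in
theorem finrank_le_one [IsAlgClosed k] :
    Module.finrank k (Coh.HH X ((tF L).obj (ClSub.quotMod Z)) 0) ≤ 1 := by
  haveI := Euler.isNoetherian_of_proper (X := X) k
  obtain ⟨x, hx⟩ : ∃ x, x ∈ (Z.support : Set X) := by
    by_contra hem
    push Not at hem
    rw [Ne, ← Scheme.IdealSheafData.support_eq_bot_iff] at hZ0
    refine hZ0 ?_
    exact SetLike.ext fun x => ⟨fun hx => absurd hx (hem x), fun hx => False.elim (show x ∈ (∅ : Set X) from hx)⟩
  obtain ⟨y, hy, hyZ, -⟩ := exists_curve_through k hdim hZ hx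
  obtain ⟨h, hinj⟩ := injective_curve k hdim hL hnc hdeg hZ hy hyZ
  haveI := ProjCoh.moduleFinite_HH k ((tF L).obj (ClSub.quotMod (curveIdeal y)))
    (Euler.isCoh_tF (QCoh.pushUnit_isCoh (curveIdeal y).subschemeι) (Euler.isFinLocFree_of_isInvertible hL)) 0
  exact (LinearMap.finrank_le_finrank_of_injective hinj).trans (finrank_curve_le_one k hdim hL hy (hdeg y hy hyZ))

include hdim hnc hdeg hZ hL in
theorem nonempty_iso_of_nontrivial (hnt : Nontrivial (Coh.HH X ((tF L).obj (ClSub.quotMod Z)) 0)) :
    Nonempty ((tF L).obj (ClSub.quotMod Z) ≅ ClSub.quotMod Z) := by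
  haveI := Euler.isNoetherian_of_proper (X := X) k
  obtain ⟨u, hu⟩ := exists_ne (0 : Coh.HH X ((tF L).obj (ClSub.quotMod Z)) 0)
  let M := (tF L).obj (ClSub.quotMod Z)
  let t : Γ(M, ⊤) := ProjCoh.H0top M u
  let φ : Coh.structureModule X ⟶ M := FinCov.homOfSection t
  have hφ1 : φ.app ⊤ (FinCov.one X ⊤) = t :=
    (FinCov.homOfSection_one t ⊤).trans (LefEt7.presheaf_map_self _ _ _)
  have hsurj : ∀ x, Function.Surjective (stalkLin φ x) := by
    intro x w
    by_cases hx : x ∈ (Z.support : Set X)
    · obtain ⟨y, hy, hyZ, hyx⟩ := exists_curve_through k hdim hZ hx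
      obtain ⟨h, hinj⟩ := injective_curve k hdim hL hnc hdeg hZ hy hyZ
      let π := (tF L).map (Lef.quotMap h)
      have hne : φ ≫ π ≠ 0 := fun h0 => hu (hinj (by
        rw [map_zero]
        refine (ProjCoh.H0top _).injective ?_
        rw [map_zero]
        refine (ProjCoh.H0top_map _ u).trans ?_
        show π.app ⊤ t = 0
        rw [← hφ1]
        show (φ ≫ π).app ⊤ (FinCov.one X ⊤) = 0
        rw [h0]
        rfl))
      haveI := epi_of_ne_zero k hdim hL hy (hdeg y hy hyZ) (φ ≫ π) hne
      -- the stalk of `L ⊗ O_Z` is cyclic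
      haveI := Euler.epi_toSubscheme Z
      haveI : Epi ((tF L).map (ClSub.toSubscheme Z)) := inferInstance
      obtain ⟨e0, he0⟩ := Ref1.exists_gen_of_isInvertible hL x
      let p : L ⟶ M := (OX.tensorUnitLeftIso L).inv ≫ (tF L).map (ClSub.toSubscheme Z)
      haveI : Epi p := epi_comp' inferInstance inferInstance
      let e := stalkLin p x e0
      have hgen : ∀ v : M.presheaf.stalk x, ∃ c : X.presheaf.stalk x, c • e = v := fun v => by
        obtain ⟨v', rfl⟩ := QCoh.stalkLin_surjective p x v
        obtain ⟨c, hc⟩ := he0.2 v'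
        exact ⟨c, ((stalkLin p x).map_smul c e0).symm.trans (congrArg _ hc)⟩
      obtain ⟨a, ha⟩ := hgen (stalkLin φ x (HomSh.unitStalk x 1))
      obtain ⟨v, hv⟩ := QCoh.stalkLin_surjective (φ ≫ π) x (stalkLin π x e)
      rw [HodgeIndex.stalkLin_comp_apply] at hv
      have hv1 : stalkLin φ x v = (HomSh.unitStalk x).symm v • (a • e) := by
        rw [ha, ← map_smul, ← map_smul, smul_eq_mul, mul_one, LinearEquiv.apply_symm_apply]
      rw [hv1, map_smul, map_smul, smul_smul] at hv
      set b := (HomSh.unitStalk x).symm v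
      have hau : IsUnit a := by
        by_contra hau
        have hba : IsUnit (1 - b * a) := by
          refine (IsLocalRing.isUnit_or_isUnit_one_sub_self (b * a)).resolve_left fun h' => hau ?_
          exact isUnit_of_mul_isUnit_right h'
        have hπe : stalkLin π x e = 0 := by
          refine (hba.smul_eq_zero).1 ?_
          rw [sub_smul, one_smul, hv, sub_self]
        haveI := Euler.epi_toSubscheme (curveIdeal y)
        haveI : Epi π := by
          haveI : Epi (Lef.quotMap h) := epi_of_epi_fac (LefEt7.toSubscheme_quotMap h)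
          infer_instance
        have hsub : Subsingleton (((tF L).obj (ClSub.quotMod (curveIdeal y))).presheaf.stalk x) :=
          subsingleton_of_forall_eq 0 fun z => by
            obtain ⟨z', rfl⟩ := QCoh.stalkLin_surjective π x z
            obtain ⟨c, rfl⟩ := hgen z'
            rw [map_smul, hπe, smul_zero]
        obtain ⟨f⟩ := Euler.nonempty_stalk_equiv_pi (M := ClSub.quotMod (curveIdeal y))
          (Euler.isFinLocFreeOfRank_one' hL) x
        refine CurveMult.mem_support_quotMod (curveIdeal y) (x := x) (specializes_iff_mem_closure.1 hyx) ⟨fun z z' => ?_⟩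
        exact congrFun (f.symm.injective (@Subsingleton.elim _ hsub (f.symm fun _ => z) (f.symm fun _ => z'))) 0
      obtain ⟨c, rfl⟩ := hgen w
      refine ⟨(c * ↑hau.unit⁻¹) • HomSh.unitStalk x 1, ?_⟩
      rw [map_smul, ← ha, smul_smul, mul_assoc, hau.val_inv_mul, mul_one]
    · haveI : Subsingleton (M.presheaf.stalk x) := QCoh.stalk_subsingleton_of_notMem fun h' => by
        have h'' := Euler.support_tF_subset (Euler.isFinLocFreeOfRank_one' hL) h'
        exact hx (Z.range_subschemeι ▸ QCoh.support_pushforward_subset_range Z.subschemeι _ h'')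
      exact ⟨0, Subsingleton.elim _ _⟩
  haveI : Epi φ := (OX.epi_iff φ).2 fun x => (ModuleCat.epi_iff_surjective _).2 (hsurj x)
  -- descend to `Z`
  obtain ⟨q⟩ := CMReg.nonempty_tensorMod_push Z.subschemeι L (Euler.isFinLocFree_of_isInvertible hL)
  let q' : M ≅ (Scheme.Modules.pushforward Z.subschemeι).obj ((Scheme.Modules.pullback Z.subschemeι).obj L) := q
  obtain ⟨ψ, hψ, -⟩ := exists_factor Z.subschemeι (φ ≫ q'.hom)
  obtain ⟨_, hl, hr⟩ := K0Sub.pushforward_exact Z.subschemeι
  haveI := hl
  haveI := hr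
  haveI := K0Sub.faithful_push Z.subschemeι
  haveI : Epi (K0Sub.unitApp Z.subschemeι (Coh.structureModule X) ≫ (Scheme.Modules.pushforward Z.subschemeι).map ψ) := by
    rw [hψ]; infer_instance
  haveI : Epi ((Scheme.Modules.pushforward Z.subschemeι).map ψ) :=
    epi_of_epi (K0Sub.unitApp Z.subschemeι (Coh.structureModule X)) _
  haveI : Epi ψ := (Scheme.Modules.pushforward Z.subschemeι).epi_of_epi_map ‹_›
  haveI := HodgeIndex.isIso_of_epi_inv
    (Ample.isInvertible_pullback Z.subschemeι (Euler.isInvertible_structure (X := X)))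
    (Ample.isInvertible_pullback Z.subschemeι hL) ψ
  exact ⟨q' ≪≫ (Scheme.Modules.pushforward Z.subschemeι).mapIso
    ((asIso ψ).symm ≪≫ OX.pullUnitIso Z.subschemeι)⟩

end GrothLib.NumConn12
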