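import Groth.Agent.Lib.QCoh.SchSupport
import Groth.Agent.Lib.BlowUp.EffCartier
import Groth.Agent.Lib.IdealModSec.Basic
import Groth.Agent.Lib.LefEt7.Sec
import Groth.Agent.Lib.ArSurf29.DivSum
import Groth.Prelude.Def_Lef

/-!
# The difference of two effective Cartier divisors
-/

set_option autoImplicit false
set_option backward.isDefEq.respectTransparency false
set_option linter.all false

universe u

open CategoryTheory CategoryTheory.Limits AlgebraicGeometry TopologicalSpace Opposite

noncomputable section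

namespace GrothLib.NumConn12

open GrothLib.BlowUp (CartierOn exists_cartierOn_le)

variable {X : Scheme.{u}}

theorem quotMap_app {I J : X.IdealSheafData} (h : I ≤ J) (W : X.Opens) (r : Γ(X, W)) :
    (Lef.quotMap h).app W (I.subschemeι.app W r) = J.subschemeι.app W r :=
  congr(($(LefEt7.toSubscheme_quotMap h)).app W r)

/-- An effective divisor containing another one is their sum with a third one. -/
theorem exists_quotient [IsLocallyNoetherian X] {Z A : X.IdealSheafData}
    (hZ : _root_.BlowUp.IsEffCartierIdeal Z) (hA : _root_.BlowUp.IsEffCartierIdeal A) (h : Z ≤ A) :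
    ∃ K : X.IdealSheafData, _root_.BlowUp.IsEffCartierIdeal K ∧ Z = A * K := by
  have hF : Coh.IsCoh (kernel (Lef.quotMap h)) :=
    QCoh.isCoh_kernel _ (QCoh.pushUnit_isCoh Z.subschemeι) (QCoh.pushUnit_isCoh A.subschemeι)
  haveI := hF.1
  let K := QCoh.annIdeal (kernel (Lef.quotMap h)) hF.2
  have key : ∀ (U : X.affineOpens) (c : Γ(X, U.1)),
      c ∈ K.ideal U ↔ ∀ a ∈ A.ideal U, c * a ∈ Z.ideal U := by
    intro U c
    rw [QCoh.annIdeal_ideal, Module.mem_annihilator]
    let q : Γ(X, U.1) → Γ(ClSub.quotMod Z, U.1) := fun a => Z.subschemeι.app U.1 a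
    have hsm : ∀ a : Γ(X, U.1), c • q a = q (c * a) := fun a =>
      (map_mul (Z.subschemeι.app U.1).hom c a).symm
    constructor
    · intro hc a ha
      obtain ⟨m, hm⟩ := (IdealModSec.app_kernel (Lef.quotMap h) U.1).2 (Z.subschemeι.app U.1 a)
        ((quotMap_app h U.1 a).trans (by rwa [← A.ker_subschemeι_app U] at ha))
      rw [← Z.ker_subschemeι_app U, RingHom.mem_ker]
      refine (hsm a).symm.trans ?_
      refine (congrArg (c • ·) hm.symm).trans ((Scheme.Modules.Hom.app_smul (kernel.ι (Lef.quotMap h)) c m).symm.trans ?_)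
      rw [hc m, map_zero]
    · intro hc m
      refine (IdealModSec.app_kernel (Lef.quotMap h) U.1).1 ?_
      rw [map_zero, Scheme.Modules.Hom.app_smul]
      obtain ⟨a, ha⟩ := Z.subschemeι.app_surjective U.1 U.2 ((kernel.ι (Lef.quotMap h)).app U.1 m)
      have haA : a ∈ A.ideal U := by
        rw [← A.ker_subschemeι_app U, RingHom.mem_ker]
        refine (quotMap_app h U.1 a).symm.trans ((congrArg _ ha).trans ?_)
        show (kernel.ι (Lef.quotMap h) ≫ Lef.quotMap h).app U.1 m = 0
        rw [kernel.condition]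
        rfl
      have h0 := hc a haA
      rw [← Z.ker_subschemeι_app U, RingHom.mem_ker] at h0
      exact ((congrArg (c • ·) (show (kernel.ι (Lef.quotMap h)).app U.1 m = q a from ha.symm)).trans (hsm a)).trans h0
  have loc : ∀ x : X, ∃ V : X.affineOpens, x ∈ V.1 ∧ CartierOn K V ∧ Z.ideal V = (A * K).ideal V := by
    intro x
    obtain ⟨U, hxU, hU⟩ := hZ x
    obtain ⟨V, hxV, hVU, g, hg, eg⟩ := exists_cartierOn_le hA hxU
    obtain ⟨f, hf, ef⟩ := BlowUp.CartierOn.mono hU hVU
    obtain ⟨c, hc⟩ := Ideal.mem_span_singleton'.1 (eg ▸ h V (ef ▸ Ideal.mem_span_singleton_self f))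
    have hK : K.ideal V = Ideal.span {c} := by
      ext z
      rw [key V z, Ideal.mem_span_singleton']
      constructor
      · intro hz
        obtain ⟨r, hr⟩ := Ideal.mem_span_singleton'.1 (ef ▸ hz g (eg ▸ Ideal.mem_span_singleton_self g))
        exact ⟨r, (mul_cancel_right_mem_nonZeroDivisors hg).1 (by rw [mul_assoc, hc, hr])⟩
      · rintro ⟨r, rfl⟩ a ha
        obtain ⟨s, rfl⟩ := Ideal.mem_span_singleton'.1 (eg ▸ ha)
        rw [ef]
        exact Ideal.mem_span_singleton'.2 ⟨r * s, by rw [← hc]; ring⟩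
    refine ⟨V, hxV, ⟨c, ?_, hK⟩, ?_⟩
    · exact (mul_mem_nonZeroDivisors.1 (show c * g ∈ nonZeroDivisors Γ(X, V.1) from hc ▸ hf)).1
    · rw [Scheme.IdealSheafData.ideal_mul, Pi.mul_apply, ef, eg, hK, Ideal.span_singleton_mul_span_singleton,
        mul_comm g c, hc]
  choose V hxV hV hVe using loc
  exact ⟨K, fun x => ⟨V x, hxV x, hV x⟩, Scheme.IdealSheafData.ext_of_iSup_eq_top V
    (top_unique fun x _ => Opens.mem_iSup.mpr ⟨x, hxV x⟩) hVe⟩

/-- Adding a divisor changes a divisor unless it is empty. -/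
theorem eq_top_of_mul_eq {C K : X.IdealSheafData} (hC : _root_.BlowUp.IsEffCartierIdeal C)
    (hK : _root_.BlowUp.IsEffCartierIdeal K) (h : C * K = K) : C = ⊤ := by
  have loc : ∀ x : X, ∃ V : X.affineOpens, x ∈ V.1 ∧ C.ideal V = ⊤ := by
    intro x
    obtain ⟨U, hxU, hU⟩ := hC x
    obtain ⟨V, hxV, hVU, g, hg, eg⟩ := exists_cartierOn_le hK hxU
    obtain ⟨c, -, ec⟩ := BlowUp.CartierOn.mono hU hVU
    have e := congrArg (fun I => I.ideal V) h
    simp only [Scheme.IdealSheafData.ideal_mul, Pi.mul_apply, ec, eg, Ideal.span_singleton_mul_span_singleton] at e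
    obtain ⟨r, hr⟩ := Ideal.mem_span_singleton'.1 (e.ge (Ideal.mem_span_singleton_self g))
    refine ⟨V, hxV, ?_⟩
    rw [ec, Ideal.span_singleton_eq_top]
    refine IsUnit.of_mul_eq_one_right r ((mul_cancel_right_mem_nonZeroDivisors hg).1 ?_)
    rw [mul_assoc, hr, one_mul]
  choose V hxV hV using loc
  exact Scheme.IdealSheafData.ext_of_iSup_eq_top V (top_unique fun x _ => Opens.mem_iSup.mpr ⟨x, hxV x⟩)
    fun x => by rw [hV x, Scheme.IdealSheafData.ideal_top, Pi.top_apply]

end GrothLib.NumConn12
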