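import Groth.Agent.Lib.NumConn12.Quotient
import Groth.Agent.Lib.ArSurf29.NoSection
import Groth.Agent.Lib.CMReg.StructureMain
import Groth.Agent.Lib.HodgeIndex.NegCurves
import Groth.Agent.Lib.HodgeIndex.IdealMul
import Groth.Agent.Lib.HodgeIndex.IdealLe
import Groth.Agent.Lib.CurveMult.NefGenusZero
import Groth.Agent.Lib.Snapper.PushEuler
import Groth.Agent.Lib.Snapper.Intersection

/-!
# Sections of line bundles on numerically connected divisors restrict injectively to each component
-/

set_option autoImplicit false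
set_option backward.isDefEq.respectTransparency false
set_option linter.all false

universe u

open CategoryTheory CategoryTheory.Limits AlgebraicGeometry TopologicalSpace Opposite

noncomputable section

namespace GrothLib.NumConn12

open GrothLib.Cube (Pic clsMod)
open GrothLib.HodgeIndex (isect deg curveIdeal rep)
open GrothLib.Snapper (IsTop DimLT mixed phi)
open GrothLib.Euler (tF)

variable {X : Scheme.{u}}

theorem quotMap_comp {I J K : X.IdealSheafData} (h : I ≤ J) (h' : J ≤ K) :
    Lef.quotMap h ≫ Lef.quotMap h' = Lef.quotMap (h.trans h') := by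
  haveI := Euler.epi_toSubscheme I
  rw [← cancel_epi (ClSub.toSubscheme I), ← Category.assoc, LefEt7.toSubscheme_quotMap,
    LefEt7.toSubscheme_quotMap, LefEt7.toSubscheme_quotMap]

theorem quotMap_self (I : X.IdealSheafData) (h : I ≤ I) : Lef.quotMap h = 𝟙 _ := by
  haveI := Euler.epi_toSubscheme I
  rw [← cancel_epi (ClSub.toSubscheme I), LefEt7.toSubscheme_quotMap, Category.comp_id]

variable (k : Type u) [Field k] [X.Over (Spec (CommRingCat.of k))] [IsProper (X ↘ Spec (CommRingCat.of k))]
  [IsIntegral X] (hdim : topologicalKrullDim X = ((2 : ℕ) : WithBot ℕ∞))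

include hdim in
/-- The class of an effective divisor is a combination of the curves it contains. -/
theorem exists_decomp {K : X.IdealSheafData} (hK : PicF.IsInvertible (ClSub.idealMod K)) :
    ∃ (T : Finset X) (m : X → ℕ), (∀ y ∈ T, IsTop 1 y ∧ y ∈ (K.support : Set X)) ∧
      ∀ x : Pic X, (isect k x (clsMod hK)⁻¹ : ℚ) = ∑ y ∈ T, (m y : ℚ) * deg k y x := by
  haveI := Euler.isNoetherian_of_proper (X := X) k
  haveI : Mono (ClSub.idealModι K) := inferInstanceAs (Mono (kernel.ι (ClSub.toSubscheme K)))
  let Q := cokernel (ClSub.idealModι K)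
  have hQ : Coh.IsCoh Q := QCoh.isCoh_cokernel _ (Euler.isCoh_of_isInvertible hK) (Kleiman.isCoh_O k)
  have hsub : CohB1.support Q ⊆ (K.support : Set X) := fun x hx => by
    by_contra hxK
    exact QCoh.notMem_support_cokernel_of_surjective _ (HodgeIndex.stalk_bijective_idealModι K hxK).2 hx
  have hQd : DimLT (CohB1.support Q) (1 + 1) :=
    (Snapper.dimLT_of_notMem (Kleiman.isTop_genericPoint hdim).dimLT Set.inter_subset_left
      (T := closure {genericPoint X} ∩ CohB1.support Q)
      (fun h => HodgeIndex.genericPoint_notMem_support k hdim hK (hsub h.2))).mono fun x hx =>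
        ⟨by rw [show closure ({genericPoint X} : Set X) = Set.univ from (genericPoint_spec X).def]; trivial, hx⟩
  have hTf : {y : X | IsTop 1 y ∧ y ∈ CohB1.support Q}.Finite :=
    Snapper.finite_of_maximal (QCoh.isClosed_support_of_isCoh hQ) (fun y hy => hy.2) fun x hx y hy hyx =>
      hx.1.eq_of_specializes hyx (hQd.mono ((QCoh.isClosed_support_of_isCoh hQ).closure_subset_iff.2
        (Set.singleton_subset_iff.2 hy)))
  refine ⟨hTf.toFinset, fun y => Snapper.mult Q y,
    fun y hy => ⟨(hTf.mem_toFinset.1 hy).1, hsub (hTf.mem_toFinset.1 hy).2⟩, fun x => ?_⟩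
  have hsum := Snapper.mixed_eq_zero
    (Snapper.phi_sub_sum_mem k (L := fun _ : Fin 1 => rep x) (fun _ => HodgeIndex.isInv_rep x) hQ hQd)
  rw [finsum_eq_sum_of_support_subset _ (s := hTf.toFinset) (fun y hy => by
    rw [Set.Finite.coe_toFinset]
    by_contra hc
    exact hy (Snapper.topTerm_eq_zero _ fun ht hm => hc ⟨ht, hm⟩)), map_sub, sub_eq_zero, map_sum,
    Goodman.mixed_cokernel_ideal k hdim hK (ClSub.idealModι K) x] at hsum
  rw [hsum]
  refine Finset.sum_congr rfl fun y hy => ?_
  rw [Snapper.topTerm_of _ (hTf.mem_toFinset.1 hy).1, map_nsmul, nsmul_eq_mul]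
  rfl

variable [Smooth (X ↘ Spec (CommRingCat.of k))]

omit [IsIntegral X] [Smooth (X ↘ Spec (CommRingCat.of k))] [IsProper (X ↘ Spec (CommRingCat.of k))] in
theorem dim_pt {y : X} (hy : IsTop 1 y) : topologicalKrullDim (curveIdeal y).subscheme ≤ 1 := by
  rw [IsHomeomorph.topologicalKrullDim_eq _
    (curveIdeal y).subschemeι.isClosedEmbedding.isEmbedding.toHomeomorph.isHomeomorph, Snapper.range_pt y]
  exact le_of_eq hy

include hdim in
theorem deg_pullback_pt {y : X} (hy : IsTop 1 y) {E : X.Modules} (hE : PicF.IsInvertible E) :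
    ((@Curv2.deg k _ (curveIdeal y).subscheme ⟨(curveIdeal y).subschemeι ≫ (X ↘ Spec (CommRingCat.of k))⟩
      ((Scheme.Modules.pullback (curveIdeal y).subschemeι).obj E) 1 : ℤ) : ℚ) = deg k y (clsMod hE) := by
  rw [HodgeIndex.deg_eq_mixed k hE, show Snapper.ptMod y = ClSub.quotMod (curveIdeal y) from rfl,
    ← HodgeIndex.euler_sub_eq_mixed k hE,
    show CohB1.tensorMod (ClSub.quotMod (curveIdeal y)) E = (tF E).obj (ClSub.quotMod (curveIdeal y)) from rfl,
    Snapper.euler_tF_quotMod k (curveIdeal y) (Euler.isFinLocFree_of_isInvertible hE),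
    Snapper.euler_quotMod k (curveIdeal y)]
  rw [Curv2.deg]
  simp

include hdim in
/-- Adding a curve of large intersection keeps the restriction injective. -/
theorem injective_step {A : X.IdealSheafData} (hA : PicF.IsInvertible (ClSub.idealMod A)) {L : X.Modules}
    (hL : PicF.IsInvertible L) {y : X} (hy : IsTop 1 y)
    (hneg : deg k y (clsMod hL) - deg k y (clsMod hA)⁻¹ < 0) (h : A * curveIdeal y ≤ A) :
    Function.Injective (Cohom.hhMap k ((tF L).map (Lef.quotMap h)) 0) := by
  haveI := Euler.isNoetherian_of_proper (X := X) k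
  set C := curveIdeal y with hCdef
  have hC := HodgeIndex.inv_curveIdeal k hdim hy
  haveI : IsIntegral C.subscheme := Snapper.isIntegral_pt y
  letI : C.subscheme.Over (Spec (CommRingCat.of k)) := ⟨C.subschemeι ≫ X ↘ Spec (CommRingCat.of k)⟩
  haveI : IsProper (C.subscheme ↘ Spec (CommRingCat.of k)) :=
    inferInstanceAs (IsProper (C.subschemeι ≫ X ↘ Spec (CommRingCat.of k)))
  let j := C.subschemeι
  obtain ⟨S, hS, ⟨a₁⟩, a₂, a₃, hcomp⟩ := ArSurf29.exists_shortExact_mul' A C hA hC
  have heq : a₂.inv ≫ S.g ≫ a₃.hom = Lef.quotMap h := by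
    haveI := Euler.epi_toSubscheme (A * C)
    rw [← cancel_epi (ClSub.toSubscheme (A * C)), LefEt7.toSubscheme_quotMap]
    exact hcomp
  have hlf := Euler.isFinLocFree_of_isInvertible hL
  have hT := OX.tensor_map_shortExact (OX.flat_of_isFinLocFree hlf) hS
  -- the kernel as a line bundle on the curve
  obtain ⟨q⟩ := CMReg.nonempty_tensorMod_push j (ClSub.idealMod A) (Euler.isFinLocFree_of_isInvertible hA)
  let LC := (Scheme.Modules.pullback j).obj L
  let AC := (Scheme.Modules.pullback j).obj (ClSub.idealMod A)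
  haveI := ProjFormula.isIso_projHom j hlf AC
  let c : (tF L).obj S.X₁ ≅ (Scheme.Modules.pushforward j).obj (CohB1.tensorMod LC AC) :=
    (tF L).mapIso (a₁ ≪≫ GrTilde.tensorModComm _ _ ≪≫ q) ≪≫
      GrTilde.tensorModComm ((Scheme.Modules.pushforward j).obj AC) L ≪≫
      asIso (ProjFormula.projHom j L AC)
  have hLC := Ample.isInvertible_pullback j hL
  have hAC := Ample.isInvertible_pullback j hA
  have hLA := Ample.isInvertible_tensorMod hL hA
  obtain ⟨ε⟩ := (Cube.clsMod_eq_iff (Ample.isInvertible_pullback j hLA) (Ample.isInvertible_tensorMod hLC hAC)).1 (by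
    rw [Cube.clsMod_pullback j hLA, Cube.clsMod_tensorMod hL hA, map_mul, Cube.clsMod_tensorMod hLC hAC,
      Cube.clsMod_pullback j hL, Cube.clsMod_pullback j hA])
  have hd : Curv2.deg k C.subscheme ((Scheme.Modules.pullback j).obj (CohB1.tensorMod L (ClSub.idealMod A))) 1 < 0 := by
    have e := deg_pullback_pt k hdim hy hLA
    rw [Cube.clsMod_tensorMod hL hA, Goodman.deg_mul k hy] at e
    rw [Goodman.deg_inv k hy] at hneg
    have : ((Curv2.deg k C.subscheme ((Scheme.Modules.pullback j).obj (CohB1.tensorMod L (ClSub.idealMod A))) 1 : ℤ) : ℚ) < 0 :=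
      lt_of_eq_of_lt e (by linarith)
    exact_mod_cast this
  haveI hsub := ArSurf29.subsingleton_of_deg_neg k (dim_pt hy) (Ample.isInvertible_pullback j hLA) hd
  have h1 : Subsingleton Γ((tF L).obj S.X₁, ⊤) := by
    haveI h2 : Subsingleton Γ((Scheme.Modules.pushforward j).obj
        ((Scheme.Modules.pullback j).obj (CohB1.tensorMod L (ClSub.idealMod A))), ⊤) := hsub
    exact (Cohom.app_injective_of_mono (c ≪≫ (Scheme.Modules.pushforward j).mapIso ε.symm).hom ⊤).subsingleton
  have h3 : Subsingleton (Coh.HH X ((tF L).obj S.X₁) 0) := (ProjCoh.H0top _).injective.subsingleton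
  have hiso : ∀ {M N : X.Modules} (e : M ≅ N), Function.Injective (Cohom.hhMap k ((tF L).map e.hom) 0) := by
    intro M N e z z' hz
    have h0 := congrArg (Cohom.hhMap k ((tF L).map e.inv) 0) hz
    rwa [← Euler.hhMap_comp (A := k), ← Euler.hhMap_comp (A := k), ← Functor.map_comp, e.hom_inv_id,
      CategoryTheory.Functor.map_id, Euler.hhMap_id, Euler.hhMap_id] at h0
  rw [← heq, injective_iff_map_eq_zero]
  intro z hz
  rw [Functor.map_comp, Functor.map_comp, Euler.hhMap_comp (A := k), Euler.hhMap_comp (A := k)] at hz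
  have hz' := hiso a₃ (hz.trans (map_zero _).symm)
  obtain ⟨w, hw⟩ := (Cohom.exact₂ (A := k) hT 0 _).1 hz'
  have hw0 : w = 0 := @Subsingleton.elim _ h3 w 0
  rw [hw0, map_zero] at hw
  exact hiso a₂.symm (hw.symm.trans (map_zero _).symm)

variable {Z : X.IdealSheafData} {L : X.Modules} (hL : PicF.IsInvertible L)
  (hnc : ∀ A K : X.IdealSheafData, ∀ (hA : PicF.IsInvertible (ClSub.idealMod A))
    (hK : PicF.IsInvertible (ClSub.idealMod K)), A ≠ ⊤ → K ≠ ⊤ → Z = A * K →
      0 < isect k (clsMod hA)⁻¹ (clsMod hK)⁻¹)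
  (hdeg : ∀ y, IsTop 1 y → y ∈ (Z.support : Set X) → deg k y (clsMod hL) ≤ 0)

include hdim hnc hdeg in
/-- Restriction to a partial sum is injective on sections. -/
theorem injective_of_quotient (K : X.IdealSheafData) :
    ∀ A : X.IdealSheafData, _root_.BlowUp.IsEffCartierIdeal A → A ≠ ⊤ → _root_.BlowUp.IsEffCartierIdeal K →
      Z = A * K → ∀ h : Z ≤ A, Function.Injective (Cohom.hhMap k ((tF L).map (Lef.quotMap h)) 0) := by
  haveI := Euler.isNoetherian_of_proper (X := X) k
  haveI := CurveMult.wellFoundedGT_idealSheafData (X := X)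
  induction K using WellFoundedGT.induction with
  | ind K ih =>
    intro A hA hA0 hK hZ h
    by_cases hK0 : K = ⊤
    · have e : Z = A := by rw [hZ, hK0, ← Scheme.IdealSheafData.one_eq_top, mul_one]
      subst e
      rw [quotMap_self, CategoryTheory.Functor.map_id]
      intro a b hab
      rwa [Euler.hhMap_id, Euler.hhMap_id] at hab
    · have hAi := IdealModSec.isInvertible_of_isEffCartier hA
      have hKi := IdealModSec.isInvertible_of_isEffCartier hK
      obtain ⟨T, m, hT, hsum⟩ := exists_decomp k hdim hKi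
      have hpos : (0 : ℚ) < ∑ y ∈ T, (m y : ℚ) * deg k y (clsMod hAi)⁻¹ := by
        rw [← hsum]
        exact_mod_cast hnc A K hAi hKi hA0 hK0 hZ
      obtain ⟨y, hy, hy0⟩ : ∃ y ∈ T, 0 < (m y : ℚ) * deg k y (clsMod hAi)⁻¹ := by
        by_contra hc
        push Not at hc
        exact absurd hpos (not_lt.2 (Finset.sum_nonpos hc))
      obtain ⟨hyt, hyK⟩ := hT y hy
      have hya : 0 < deg k y (clsMod hAi)⁻¹ := pos_of_mul_pos_right hy0 (Nat.cast_nonneg _)
      set C := curveIdeal y with hCdef
      have hKC : K ≤ C := Scheme.IdealSheafData.le_support_iff_le_vanishingIdeal.1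
        (closure_minimal (Set.singleton_subset_iff.2 hyK) K.support.isClosed)
      have hC := HodgeIndex.eff_curveIdeal k hdim hyt
      obtain ⟨K', hK', hKe⟩ := exists_quotient hK hC hKC
      have hlt : K < K' := by
        refine lt_of_le_of_ne (hKe.le.trans (by rw [mul_comm]; exact ArSurf29.mul_le_left' _ _)) fun e => ?_
        have hC0 := eq_top_of_mul_eq hC hK' (hKe.symm.trans e)
        have : y ∈ (C.support : Set X) := subset_closure rfl
        rw [hCdef, hC0, Scheme.IdealSheafData.support_top] at this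
        exact this
      have hyZ : y ∈ (Z.support : Set X) :=
        Scheme.IdealSheafData.support_antitone (hZ.le.trans (by rw [mul_comm]; exact ArSurf29.mul_le_left' _ _)) hyK
      have hle : A * C ≤ A := ArSurf29.mul_le_left' _ _
      have hstep := injective_step k hdim hAi hL hyt (by linarith [hdeg y hyt hyZ]) hle
      have hA'0 : A * C ≠ ⊤ := fun e => hA0 (top_le_iff.1 (e ▸ hle))
      have hZ' : Z = A * C * K' := by rw [hZ, hKe, mul_assoc]
      have hle' : Z ≤ A * C := hZ'.le.trans (ArSurf29.mul_le_left' _ _)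
      have hrec := ih K' hlt (A * C) (BlowUp.isEffCartierIdeal_mul hA hC) hA'0 hK' hZ' hle'
      intro a b hab
      rw [← quotMap_comp hle' hle, Functor.map_comp, Euler.hhMap_comp (A := k), Euler.hhMap_comp (A := k)] at hab
      exact hrec (hstep hab)

include hdim hnc hdeg in
/-- Restriction to any component is injective on sections. -/
theorem injective_curve (hZ : _root_.BlowUp.IsEffCartierIdeal Z) {y : X} (hy : IsTop 1 y)
    (hyZ : y ∈ (Z.support : Set X)) :
    ∃ h : Z ≤ curveIdeal y, Function.Injective (Cohom.hhMap k ((tF L).map (Lef.quotMap h)) 0) := by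
  haveI := Euler.isNoetherian_of_proper (X := X) k
  have hle : Z ≤ curveIdeal y := Scheme.IdealSheafData.le_support_iff_le_vanishingIdeal.1
    (closure_minimal (Set.singleton_subset_iff.2 hyZ) Z.support.isClosed)
  have hC := HodgeIndex.eff_curveIdeal k hdim hy
  obtain ⟨K, hK, hKe⟩ := exists_quotient hZ hC hle
  refine ⟨hle, injective_of_quotient k hdim hL hnc hdeg K _ hC (fun e => ?_) hK hKe hle⟩
  have : y ∈ ((curveIdeal y).support : Set X) := subset_closure rfl
  rw [e, Scheme.IdealSheafData.support_top] at this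
  exact this

end GrothLib.NumConn12
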